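import Mathlib
import Groth.Agent.NLBC.CxHom

/-!
# Naive cotangent complexes along formally etale lifts
-/

set_option autoImplicit false
set_option linter.style.haveILetI false
set_option backward.isDefEq.respectTransparency.types false

universe u

open TensorProduct Algebra CategoryTheory

namespace Groth.Agent.NLHenz

section SameRing

variable (A Ah T : Type u) [CommRing A] [CommRing Ah] [CommRing T] [Algebra A Ah] [Algebra Ah T] [Algebra A T]
  [IsScalarTower A Ah T]

theorem kaehlerMap_bijective (Q : Type u) [CommRing Q] [Algebra A Q] [Algebra Ah Q] [IsScalarTower A Ah Q]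
    [FormallyUnramified A Ah] : Function.Bijective (KaehlerDifferential.map A Ah Q Q) := by
  refine ⟨(injective_iff_map_eq_zero _).2 fun x hx => ?_, KaehlerDifferential.map_surjective _ _ _⟩
  obtain ⟨y, rfl⟩ := (KaehlerDifferential.exact_mapBaseChange_map A Ah Q x).1 hx
  rw [Subsingleton.elim y 0, map_zero]

end SameRing

variable {A B Ah T : Type u} [CommRing A] [CommRing B] [CommRing Ah] [CommRing T]
  [Algebra A B] [Algebra A Ah] [Algebra Ah T] [Algebra B T] [Algebra A T]
  [IsScalarTower A Ah T] [IsScalarTower A B T]

theorem formallySmooth_self (A B : Type u) [CommRing A] : FormallySmooth A (MvPolynomial B A) := inferInstance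

/-- A flat formally etale lift to the polynomial presentation computes the base changed complex. -/
theorem quasiIso_of_lift [FormallyEtale A Ah] (Q : Type u) [CommRing Q] [Algebra Ah Q]
    (ι : (Generators.self A B).Ring →+* Q)
    (hι : ∀ a, ι (algebraMap A _ a) = algebraMap Ah Q (algebraMap A Ah a))
    (π : Q →ₐ[Ah] T) (hπ : Function.Surjective π)
    (hc : ∀ x, π (ι x) = algebraMap B T (algebraMap (Generators.self A B).Ring B x))
    (hflat : ι.Flat) (het : ι.FormallyEtale)
    (hker : RingHom.ker π ≤ (Generators.self A B).toExtension.ker.map ι) :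
    QuasiIso (NLCx.bcMapSelf A B Ah T) := by
  letI : Algebra A Q := ((algebraMap Ah Q).comp (algebraMap A Ah)).toAlgebra
  haveI : IsScalarTower A Ah Q := IsScalarTower.of_algebraMap_eq' rfl
  let P := (Generators.self A B).toExtension
  let Q₁ : Extension.{u} A T := Extension.ofSurjective (π.restrictScalars A) hπ
  let Q₂ : Extension.{u} Ah T := Extension.ofSurjective π hπ
  let f₁ : P.Hom Q₁ :=
    { toRingHom := ι
      toRingHom_algebraMap := hι
      algebraMap_toRingHom := hc }
  let f : P.Hom Q₂ :=
    { toRingHom := ι
      toRingHom_algebraMap := hι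
      algebraMap_toRingHom := hc }
  let j : Q₁.Hom Q₂ :=
    { toRingHom := RingHom.id Q
      toRingHom_algebraMap := fun _ => rfl
      algebraMap_toRingHom := fun _ => rfl }
  letI : Algebra P.Ring Q₁.Ring := ι.toAlgebra
  haveI : Module.Flat P.Ring Q₁.Ring := hflat
  have H : Function.Bijective ((f₁.mapKer rfl).liftBaseChange Q₁.Ring) := by
    refine ⟨?_, ?_⟩
    · have h1 : Function.Injective (P.ker.subtype.lTensor Q₁.Ring) :=
        Module.Flat.lTensor_preserves_injective_linearMap _ Subtype.val_injective
      have h2 : ∀ x, (((f₁.mapKer rfl).liftBaseChange Q₁.Ring x : Q₁.ker) : Q₁.Ring) =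
          TensorProduct.rid P.Ring Q₁.Ring (P.ker.subtype.lTensor Q₁.Ring x) := by
        intro x
        induction x with
        | zero => simp
        | add x y hx hy => simp only [map_add, Submodule.coe_add, hx, hy]
        | tmul a b =>
          rw [LinearMap.liftBaseChange_tmul, LinearMap.lTensor_tmul, TensorProduct.rid_tmul, Submodule.coe_smul,
            Extension.Hom.mapKer_apply_coe, smul_eq_mul, Algebra.smul_def, mul_comm]
          rfl
      intro x y hxy
      exact h1 ((TensorProduct.rid P.Ring Q₁.Ring).injective (by rw [← h2, ← h2, hxy]))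
    · rintro ⟨q, hq⟩
      have hq' : q ∈ P.ker.map ι := hker hq
      suffices h : ∀ q ∈ P.ker.map ι, ∃ x, (((f₁.mapKer rfl).liftBaseChange Q₁.Ring x : Q₁.ker) : Q₁.Ring) = q by
        obtain ⟨x, hx⟩ := h q hq'
        exact ⟨x, Subtype.ext hx⟩
      intro q hq
      induction hq using Submodule.span_induction with
      | mem x hx =>
        obtain ⟨p, hp, rfl⟩ := hx
        exact ⟨1 ⊗ₜ ⟨p, hp⟩, by rw [LinearMap.liftBaseChange_tmul, one_smul]; rfl⟩
      | zero => exact ⟨0, by rw [map_zero]; rfl⟩
      | add x y _ _ hx hy =>
        obtain ⟨a, ha⟩ := hx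
        obtain ⟨b, hb⟩ := hy
        exact ⟨a + b, by rw [map_add, Submodule.coe_add, ha, hb]; rfl⟩
      | smul r x _ hx =>
        obtain ⟨a, ha⟩ := hx
        exact ⟨(show Q₁.Ring from r) • a, by rw [map_smul, Submodule.coe_smul, ha]; rfl⟩
  have hcot : Function.Bijective (Extension.Cotangent.map j) := by
    refine ⟨fun x y hxy => ?_, fun y => ?_⟩
    · obtain ⟨x, rfl⟩ := Extension.Cotangent.mk_surjective x
      obtain ⟨y, rfl⟩ := Extension.Cotangent.mk_surjective y
      rw [Extension.Cotangent.map_mk, Extension.Cotangent.map_mk] at hxy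
      exact Extension.Cotangent.ext (congrArg Extension.Cotangent.val hxy :)
    · obtain ⟨y, rfl⟩ := Extension.Cotangent.mk_surjective y
      exact ⟨Extension.Cotangent.mk ⟨y.1, y.2⟩, by rw [Extension.Cotangent.map_mk]; rfl⟩
  letI : Algebra Q T := π.toRingHom.toAlgebra
  have hsp : Function.Bijective (Extension.CotangentSpace.map j) := by
    have e : ∀ x, Extension.CotangentSpace.map j x =
        (KaehlerDifferential.map A Ah Q Q).lTensor T x := by
      intro (x : T ⊗[Q] Ω[Q⁄A])
      induction x using TensorProduct.induction_on with
      | zero => exact (map_zero (Extension.CotangentSpace.map j)).trans (map_zero _).symm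
      | add x y hx hy =>
        exact ((map_add (Extension.CotangentSpace.map j) x y).trans (congrArg₂ (· + ·) hx hy)).trans (map_add _ x y).symm
      | tmul t w =>
        have hw : w ∈ Submodule.span Q (Set.range (KaehlerDifferential.D A Q)) := by
          rw [KaehlerDifferential.span_range_derivation]; trivial
        induction hw using Submodule.span_induction generalizing t with
        | mem x hx =>
          obtain ⟨q, rfl⟩ := hx
          rw [LinearMap.lTensor_tmul, KaehlerDifferential.map_D]
          exact Extension.CotangentSpace.map_tmul j t q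
        | zero =>
          rw [TensorProduct.tmul_zero]
          exact (map_zero (Extension.CotangentSpace.map j)).trans (map_zero _).symm
        | add x y _ _ hx hy =>
          rw [TensorProduct.tmul_add, map_add]
          exact ((map_add (Extension.CotangentSpace.map j) (t ⊗ₜ[Q] x) (t ⊗ₜ[Q] y)).trans (congrArg₂ (· + ·) (hx t) (hy t)))
        | smul r x _ hx => rw [← TensorProduct.smul_tmul]; exact hx _
    exact (funext e : (Extension.CotangentSpace.map j : _ → _) = _) ▸
      (LinearEquiv.lTensor T (LinearEquiv.ofBijective _ (kaehlerMap_bijective A Ah Q))).bijective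
  have hb : Function.Bijective (NLBC.bcLift (S' := T) f) := by
    have e : ∀ x, NLBC.bcLift (S' := T) f x =
        Extension.Cotangent.map j (Extension.tensorCotangent f₁ rfl H x) := by
      intro x
      induction x with
      | zero => simp
      | add x y hx hy => simp only [map_add, hx, hy]
      | tmul t x =>
        obtain ⟨x, rfl⟩ := Extension.Cotangent.mk_surjective x
        show _ = Extension.Cotangent.map j ((Extension.Cotangent.map f₁).liftBaseChange T _)
        rw [LinearMap.liftBaseChange_tmul, LinearMap.liftBaseChange_tmul, map_smul]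
        simp only [Extension.Cotangent.map_mk]
        rfl
    exact (funext e : (NLBC.bcLift (S' := T) f : _ → _) = _) ▸
      hcot.comp (Extension.tensorCotangent f₁ rfl H).bijective
  have hbs : Function.Bijective (NLBC.bcLiftSp (S' := T) f) := by
    have e : ∀ x, NLBC.bcLiftSp (S' := T) f x =
        Extension.CotangentSpace.map j (Extension.tensorCotangentSpaceOfFormallyEtale f₁ het x) := by
      intro x
      induction x with
      | zero => simp
      | add x y hx hy => simp only [map_add, hx, hy]
      | tmul t x =>
        show _ = Extension.CotangentSpace.map j ((Extension.CotangentSpace.map f₁).liftBaseChange T _)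
        rw [LinearMap.liftBaseChange_tmul, LinearMap.liftBaseChange_tmul, map_smul,
          ← Extension.CotangentSpace.map_comp_apply]
        rfl
    exact (funext e : (NLBC.bcLiftSp (S' := T) f : _ → _) = _) ▸
      hsp.comp (Extension.tensorCotangentSpaceOfFormallyEtale f₁ het).bijective
  haveI : FormallyEtale P.Ring Q₁.Ring := het
  haveI : FormallySmooth A P.Ring := formallySmooth_self A B
  haveI : IsScalarTower A P.Ring Q₁.Ring := IsScalarTower.of_algebraMap_eq fun a => (hι a).symm
  haveI : FormallySmooth A Q₁.Ring := FormallySmooth.comp A P.Ring Q₁.Ring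
  haveI : FormallySmooth A Q := ‹FormallySmooth A Q₁.Ring›
  haveI : FormallySmooth Ah Q₂.Ring := FormallySmooth.of_restrictScalars A Ah Q
  let G' := (Generators.self Ah T).toExtension
  haveI : FormallySmooth Ah G'.Ring := formallySmooth_self Ah T
  haveI := NLBC.bcMap_isIso f hb hbs
  haveI : IsIso (NLCx.map Q₂.toInfinitesimal) := NLBC.map_isIso _
    (Extension.Cotangent.map_toInfinitesimal_bijective _) (Extension.CotangentSpace.map_toInfinitesimal_bijective _)
  haveI hG : IsIso (NLCx.map G'.toInfinitesimal) := NLBC.map_isIso _
    (Extension.Cotangent.map_toInfinitesimal_bijective _) (Extension.CotangentSpace.map_toInfinitesimal_bijective _)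
  have hF : IsIso (NLCx.bcMap (S' := T) (Q₂.toInfinitesimal.comp f)) := by
    rw [← NLBC.bcMap_comp_map]; infer_instance
  let g := ((Generators.self A B).defaultHom (Generators.self Ah T)).toExtensionHom
  obtain ⟨e, he⟩ := NLBC.exists_homotopyEquiv _ hF (Extension.homInfinitesimal Q₂ G')
    (Extension.homInfinitesimal G' Q₂) (G'.toInfinitesimal.comp g)
  have hq : QuasiIso (NLCx.bcMap (S' := T) g ≫ NLCx.map G'.toInfinitesimal) := by
    rw [NLBC.bcMap_comp_map, ← he]; infer_instance
  haveI : QuasiIso (NLCx.map G'.toInfinitesimal) := inferInstance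
  exact quasiIso_of_comp_right (hφφ' := hq) _ (NLCx.map G'.toInfinitesimal)

end Groth.Agent.NLHenz
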