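import Mathlib
import Groth.Agent.NLHenz.Core
import Groth.Agent.Hensel.Henselization
import Groth.Agent.Hensel.HenselizationProps
import Groth.Agent.Hensel.HenselizationMisc
import Groth.Agent.Unib7.QuotientStrict

/-!
# The local stage between a presentation and a henselization
-/

set_option autoImplicit false
set_option linter.style.haveILetI false
set_option backward.isDefEq.respectTransparency.types false

universe u

open TensorProduct Algebra CategoryTheory IsLocalRing

namespace Groth.Agent.NLHenz

attribute [local instance] MvPolynomial.algebraMvPolynomial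

variable (A B Ah T : Type u) [CommRing A] [CommRing B] [CommRing Ah] [CommRing T]
  [Algebra A B] [Algebra A Ah] [Algebra Ah T] [Algebra B T] [Algebra A T]
  [IsScalarTower A Ah T] [IsScalarTower A B T]

theorem flat_mvPolynomial_map [Module.Flat A Ah] :
    Module.Flat (MvPolynomial B A) (MvPolynomial B Ah) :=
  Module.Flat.of_linearEquiv (Algebra.IsPushout.equiv A (MvPolynomial B A) Ah (MvPolynomial B Ah)).toLinearEquiv.symm

theorem formallyEtale_mvPolynomial_map [FormallyEtale A Ah] :
    FormallyEtale (MvPolynomial B A) (MvPolynomial B Ah) :=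
  FormallyEtale.of_equiv (Algebra.IsPushout.equiv A (MvPolynomial B A) Ah (MvPolynomial B Ah))

/-- The local ring of `Ah[B]` at the point given by `T`. -/
theorem exists_stage [FormallyEtale A Ah] [Module.Flat A Ah] [IsLocalRing T] :
    ∃ (L : Type u) (_ : CommRing L) (_ : IsLocalRing L) (_ : Algebra Ah L) (φ : L →ₐ[Ah] T)
      (ι : (Generators.self A B).Ring →+* L),
      IsLocalHom φ.toRingHom ∧ (∀ a, ι (algebraMap A _ a) = algebraMap Ah L (algebraMap A Ah a)) ∧
      (∀ x, φ (ι x) = algebraMap B T (algebraMap (Generators.self A B).Ring B x)) ∧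
      ι.Flat ∧ ι.FormallyEtale ∧
      ∀ (H : Type u) [CommRing H] (g g' : L →+* H),
        (∀ a, g (algebraMap Ah L a) = g' (algebraMap Ah L a)) → (∀ x, g (ι x) = g' (ι x)) → g = g' := by
  let P' := MvPolynomial B Ah
  let φ' : P' →ₐ[Ah] T := MvPolynomial.aeval fun b : B => algebraMap B T b
  let p : Ideal P' := (maximalIdeal T).comap φ'
  let L := Localization.AtPrime p
  have hu : ∀ y : p.primeCompl, IsUnit (φ' y) := fun y => not_not.1 y.2
  let φ : L →ₐ[Ah] T := IsLocalization.liftAlgHom (M := p.primeCompl) hu
  have hφ : ∀ x, φ (algebraMap P' L x) = φ' x := fun x => IsLocalization.lift_eq _ _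
  let ι : MvPolynomial B A →+* L := (algebraMap P' L).comp (algebraMap (MvPolynomial B A) P')
  have hmap : ∀ x, algebraMap (MvPolynomial B A) P' x = MvPolynomial.map (algebraMap A Ah) x := fun _ => rfl
  have hcomp : ∀ x : MvPolynomial B A, φ' (algebraMap (MvPolynomial B A) P' x) =
      algebraMap B T (MvPolynomial.aeval (R := A) (fun b : B => b) x) := by
    intro x
    induction x using MvPolynomial.induction_on with
    | C a => simp [φ', hmap, P', ← IsScalarTower.algebraMap_apply]
    | add x y hx hy => simp only [map_add, hx, hy]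
    | mul_X x b hx => rw [map_mul, map_mul, map_mul, map_mul, hx]; simp [φ', hmap, P']
  refine ⟨L, inferInstance, inferInstance, inferInstance, φ, ι, ⟨fun x hx => ?_⟩, fun a => ?_, fun x => ?_, ?_, ?_,
    fun H _ g g' h₁ h₂ => ?_⟩
  · obtain ⟨⟨y, s⟩, rfl⟩ := IsLocalization.mk'_surjective p.primeCompl x |>.imp fun _ => id
    rw [IsLocalization.AtPrime.isUnit_mk'_iff L p]
    intro hy
    apply (show φ' y ∈ maximalIdeal T from hy)
    have : φ (algebraMap P' L y) = φ (IsLocalization.mk' L y s) * φ (algebraMap P' L s) := by
      rw [← map_mul, IsLocalization.mk'_spec]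
    rw [← hφ, this, hφ]
    exact hx.mul (hu s)
  · show algebraMap P' L (algebraMap (MvPolynomial B A) P' (MvPolynomial.C a)) = _
    rw [IsScalarTower.algebraMap_apply Ah P' L, MvPolynomial.algebraMap_def, MvPolynomial.map_C]
    rfl
  · show φ (algebraMap P' L (algebraMap (MvPolynomial B A) P' x)) = _
    rw [hφ, hcomp]
    rfl
  · haveI := flat_mvPolynomial_map A B Ah
    haveI : Module.Flat P' L := IsLocalization.flat L p.primeCompl
    exact (RingHom.flat_algebraMap_iff.2 inferInstance).comp (RingHom.flat_algebraMap_iff.2 inferInstance)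
  · haveI := formallyEtale_mvPolynomial_map A B Ah
    haveI : FormallyEtale P' L := FormallyEtale.of_isLocalization p.primeCompl
    exact (RingHom.formallyEtale_algebraMap.2 inferInstance).comp (RingHom.formallyEtale_algebraMap.2 inferInstance)
  · refine IsLocalization.ringHom_ext p.primeCompl (MvPolynomial.ringHom_ext (fun a => ?_) fun b => ?_)
    · exact h₁ a
    · have := h₂ (MvPolynomial.X b : MvPolynomial B A)
      simpa [ι, hmap, P'] using this

end Groth.Agent.NLHenz
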