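import Mathlib
import Groth.Agent.NLHenz.Stage

/-!
# Naive cotangent complexes of (strict) henselizations
-/

set_option autoImplicit false
set_option linter.style.haveILetI false
set_option backward.isDefEq.respectTransparency.types false

universe u

open TensorProduct Algebra CategoryTheory IsLocalRing

namespace Groth.Agent.NLHenz

variable {A B Ah T : Type u} [CommRing A] [CommRing B] [CommRing Ah] [CommRing T]
  [Algebra A B] [Algebra A Ah] [Algebra Ah T] [Algebra B T] [Algebra A T]
  [IsScalarTower A Ah T] [IsScalarTower A B T]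
  [IsLocalRing A] [IsLocalRing B] [IsLocalRing Ah] [IsLocalRing T]
  [IsLocalHom (algebraMap A B)] [IsLocalHom (algebraMap A Ah)] [IsLocalHom (algebraMap B T)]

theorem isLocalHom_right [IsLocalHom (algebraMap A T)]
    (h : (maximalIdeal A).map (algebraMap A Ah) = maximalIdeal Ah) :
    IsLocalHom (algebraMap Ah T) := by
  refine ((IsLocalRing.local_hom_TFAE (algebraMap Ah T)).out 0 2).2 ?_
  rw [← h, Ideal.map_map, ← IsScalarTower.algebraMap_eq]
  exact ((IsLocalRing.local_hom_TFAE (algebraMap A T)).out 0 2).1 ‹IsLocalHom (algebraMap A T)›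

section Quot

variable {L : Type u} [CommRing L] [IsLocalRing L] [Algebra Ah L]

/-- From the stage with a henselization of its quotient to the comparison. -/
theorem quasiIso_of_stage [FormallyEtale A Ah] (ι : (Generators.self A B).Ring →+* L)
    (hι : ∀ a, ι (algebraMap A _ a) = algebraMap Ah L (algebraMap A Ah a)) (φ : L →ₐ[Ah] T)
    (hc : ∀ x, φ (ι x) = algebraMap B T (algebraMap (Generators.self A B).Ring B x))
    (hflat : ι.Flat) (het : ι.FormallyEtale)
    (Q : Type u) [CommRing Q] [Algebra L Q] [Module.Flat L Q] [FormallyEtale L Q]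
    (e : (Q ⧸ ((Generators.self A B).toExtension.ker.map ι).map (algebraMap L Q)) ≃+* T)
    (he : ∀ l, e (Ideal.Quotient.mk _ (algebraMap L Q l)) = φ l) :
    QuasiIso (NLCx.bcMapSelf A B Ah T) := by
  letI : Algebra Ah Q := ((algebraMap L Q).comp (algebraMap Ah L)).toAlgebra
  let π : Q →ₐ[Ah] T :=
    { e.toRingHom.comp (Ideal.Quotient.mk _) with
      commutes' := fun a => (he (algebraMap Ah L a)).trans (φ.commutes a) }
  refine quasiIso_of_lift Q ((algebraMap L Q).comp ι) (fun a => congrArg (algebraMap L Q) (hι a)) π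
    (e.surjective.comp Ideal.Quotient.mk_surjective) (fun x => (he (ι x)).trans (hc x))
    (hflat.comp (RingHom.flat_algebraMap_iff.2 inferInstance))
    (het.comp (RingHom.formallyEtale_algebraMap.2 inferInstance)) fun q hq => ?_
  refine (le_of_eq (Ideal.map_map (I := (Generators.self A B).toExtension.ker) ι (algebraMap L Q))) ?_
  exact Ideal.Quotient.eq_zero_iff_mem.1 (e.injective ((show e (Ideal.Quotient.mk _ q) = 0 from hq).trans (map_zero e).symm))

/-- The map from `B` to the quotient stage. -/
theorem exists_quot_map (ι : (Generators.self A B).Ring →+* L)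
    (K : Ideal L) (hK : (Generators.self A B).toExtension.ker.map ι ≤ K) :
    ∃ β : B →+* L ⧸ K, ∀ x, β (algebraMap (Generators.self A B).Ring B x) = Ideal.Quotient.mk K (ι x) := by
  have hs : Function.Surjective (algebraMap (Generators.self A B).Ring B) :=
    (Generators.self A B).toExtension.algebraMap_surjective
  refine ⟨RingHom.liftOfSurjective (algebraMap (Generators.self A B).Ring B) hs
    ⟨(Ideal.Quotient.mk K).comp ι, fun x hx => Ideal.Quotient.eq_zero_iff_mem.2 (hK (Ideal.mem_map_of_mem ι hx))⟩,
    fun x => RingHom.liftOfRightInverse_comp_apply _ _ _ _ x⟩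

end Quot

theorem quasiIso_strict [Hensel.IsStrictHenselization A Ah] [Hensel.IsStrictHenselization B T] :
    QuasiIso (NLCx.bcMapSelf A B Ah T) := by
  haveI := Hensel.formallyEtale_of_isStrictHenselization A Ah
  haveI := Hensel.faithfullyFlat_of_isStrictHenselization A Ah
  haveI : IsLocalHom (algebraMap A T) := by
    rw [IsScalarTower.algebraMap_eq A B T]; infer_instance
  haveI := isLocalHom_right (T := T) (Hensel.map_maximalIdeal_of_isStrictHenselization A Ah)
  obtain ⟨L, _, _, _, φ, ι, hφl, hι, hc, hflat, het, hext⟩ := exists_stage A B Ah T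
  let K := (Generators.self A B).toExtension.ker.map ι
  have hKφ : ∀ l ∈ K, φ.toRingHom l = 0 := fun l hl => by
    have : K ≤ RingHom.ker φ.toRingHom := Ideal.map_le_iff_le_comap.2 fun x hx => by
      show φ (ι x) = 0
      rw [hc]
      exact (congrArg _ (show algebraMap (Generators.self A B).Ring B x = 0 from hx)).trans (map_zero _)
    exact this hl
  haveI : Nontrivial (L ⧸ K) := Ideal.Quotient.nontrivial_iff.2 fun h =>
    one_ne_zero (α := T) ((map_one φ.toRingHom).symm.trans (hKφ 1 (h ▸ trivial)))
  haveI : IsLocalRing (L ⧸ K) := IsLocalRing.of_surjective' (Ideal.Quotient.mk K) Ideal.Quotient.mk_surjective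
  letI : Algebra (L ⧸ K) T := (Ideal.Quotient.lift K φ.toRingHom hKφ).toAlgebra
  have hCT : ∀ l, algebraMap (L ⧸ K) T (Ideal.Quotient.mk K l) = φ l := fun l => rfl
  haveI : IsLocalHom (algebraMap (L ⧸ K) T) := ⟨fun x hx => by
    obtain ⟨l, rfl⟩ := Ideal.Quotient.mk_surjective x
    exact (hφl.map_nonunit l hx).map _⟩
  obtain ⟨β, hβ⟩ := exists_quot_map ι K le_rfl
  have hβT : ∀ b, algebraMap (L ⧸ K) T (β b) = algebraMap B T b := fun b => by
    obtain ⟨x, rfl⟩ := (Generators.self A B).toExtension.algebraMap_surjective b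
    exact ((congrArg _ (hβ x)).trans (hCT _)).trans (hc x)
  haveI : IsLocalHom β := ⟨fun b hb => (isUnit_map_iff (algebraMap B T) b).1 (hβT b ▸ hb.map _)⟩
  haveI : HenselianLocalRing T := Hensel.IsStrictHenselization.henselian B
  have hT : Hensel.IsStrictHenselization (L ⧸ K) T := by
    have hS : IsSepClosure (ResidueField B) (ResidueField T) := Hensel.IsStrictHenselization.isSepClosure
    refine ⟨inferInstance, ⟨hS.sep_closed, ?_⟩, fun H _ _ f _ τ hτ => ?_⟩
    · letI : Algebra (ResidueField B) (ResidueField (L ⧸ K)) := (ResidueField.map β).toAlgebra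
      haveI : IsScalarTower (ResidueField B) (ResidueField (L ⧸ K)) (ResidueField T) :=
        IsScalarTower.of_algebraMap_eq fun x => by
          obtain ⟨b, rfl⟩ := residue_surjective x
          exact congrArg (residue T) (hβT b).symm
      haveI := hS.separable
      exact Algebra.isSeparable_tower_top_of_isSeparable (ResidueField B) (ResidueField (L ⧸ K)) (ResidueField T)
    · have hτ' : ∀ c, τ (residue T (algebraMap (L ⧸ K) T c)) = residue H (f c) := fun c => congr($hτ (residue _ c))
      obtain ⟨g, ⟨hg, hgr⟩, hu⟩ := Hensel.IsStrictHenselization.universal (R := B) (S := T) H (f.comp β) τ (by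
        refine RingHom.ext fun x => ?_
        obtain ⟨b, rfl⟩ := residue_surjective x
        show τ (residue T (algebraMap B T b)) = residue H (f (β b))
        rw [← hβT, hτ'])
      haveI : IsLocalHom g := ⟨fun x hx => by
        have h3 : residue H (g x) ≠ 0 := residue_ne_zero_iff_isUnit _ |>.2 hx
        rw [hgr] at h3
        exact (residue_ne_zero_iff_isUnit _).1 fun h0 => h3 (by rw [h0, map_zero])⟩
      have hgC : ∀ c, g (algebraMap (L ⧸ K) T c) = f c := by
        have key : (g.comp φ.toRingHom) = f.comp (Ideal.Quotient.mk K) := by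
          refine hext H _ _ (fun a => ?_) fun x => ?_
          · let θ := τ.comp (ResidueField.map (algebraMap Ah T))
            haveI : IsLocalHom (g.comp (algebraMap A T)) := RingHom.isLocalHom_comp _ _
            have huni := Hensel.IsStrictHenselization.universal (R := A) (S := Ah) H (g.comp (algebraMap A T)) θ (by
              refine RingHom.ext fun x => ?_
              obtain ⟨r, rfl⟩ := residue_surjective x
              show τ (residue T (algebraMap Ah T (algebraMap A Ah r))) = residue H (g (algebraMap A T r))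
              rw [← IsScalarTower.algebraMap_apply, hgr])
            have h1 := huni.unique (y₁ := g.comp (algebraMap Ah T))
              (y₂ := f.comp ((Ideal.Quotient.mk K).comp (algebraMap Ah L)))
              ⟨by rw [RingHom.comp_assoc, ← IsScalarTower.algebraMap_eq], fun y => hgr _⟩
              ⟨RingHom.ext fun r => ?_, fun y => ?_⟩
            · show g (φ (algebraMap Ah L a)) = _
              rw [φ.commutes]
              exact congr($h1 a)
            · show f (Ideal.Quotient.mk K (algebraMap Ah L (algebraMap A Ah r))) = g (algebraMap A T r)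
              rw [← hι, ← hβ, IsScalarTower.algebraMap_apply A B T]
              refine Eq.trans ?_ (congr($hg (algebraMap A B r))).symm
              exact congrArg (fun z => f (β z)) (IsScalarTower.algebraMap_apply A (Generators.self A B).Ring B r).symm
            · show residue H (f _) = τ (residue T (algebraMap Ah T y))
              rw [← φ.commutes, ← hCT, hτ']
              rfl
          · show g (φ (ι x)) = f (Ideal.Quotient.mk K (ι x))
            rw [hc, ← hβ]
            exact congr($hg _)
        intro c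
        obtain ⟨l, rfl⟩ := Ideal.Quotient.mk_surjective c
        exact congr($key l)
      refine ⟨g, ⟨RingHom.ext hgC, hgr⟩, fun g' hg' => hu g' ⟨RingHom.ext fun b => ?_, hg'.2⟩⟩
      show g' (algebraMap B T b) = f (β b)
      rw [← hβT]
      exact congr($(hg'.1) (β b))
  let Q := Hensel.StrictHenz L
  let π₀ : Q →+* Q ⧸ K.map (algebraMap L Q) := Ideal.Quotient.mk _
  haveI : Nontrivial (Q ⧸ K.map (algebraMap L Q)) := Ideal.Quotient.nontrivial_iff.2 fun h => by
    have h1 : K.map (algebraMap L Q) ≤ maximalIdeal Q := by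
      refine (Ideal.map_mono (le_maximalIdeal ?_)).trans (Hensel.map_maximalIdeal_of_isStrictHenselization L Q).le
      exact Ideal.Quotient.nontrivial_iff.1 inferInstance
    exact (maximalIdeal.isMaximal Q).ne_top (top_le_iff.1 (h ▸ h1))
  haveI : IsLocalRing (Q ⧸ K.map (algebraMap L Q)) := IsLocalRing.of_surjective' π₀ Ideal.Quotient.mk_surjective
  letI : Algebra (L ⧸ K) (Q ⧸ K.map (algebraMap L Q)) :=
    (Ideal.quotientMap _ (algebraMap L Q) Ideal.le_comap_map).toAlgebra
  haveI : IsLocalHom (algebraMap (L ⧸ K) (Q ⧸ K.map (algebraMap L Q))) := ⟨fun x hx => by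
    obtain ⟨l, rfl⟩ := Ideal.Quotient.mk_surjective x
    haveI : IsLocalHom π₀ := Ideal.Quotient.mk_surjective.isLocalHom π₀
    exact ((isUnit_map_iff (algebraMap L Q) l).1 ((isUnit_map_iff π₀ _).1 hx)).map _⟩
  haveI : Hensel.IsStrictHenselization (L ⧸ K) (Q ⧸ K.map (algebraMap L Q)) :=
    Unib7.isStrictHenselization_of_surjective (Ideal.Quotient.mk K) Ideal.Quotient.mk_surjective π₀
      Ideal.Quotient.mk_surjective (RingHom.ext fun _ => rfl) (by rw [Ideal.mk_ker, Ideal.mk_ker])
  obtain ⟨e₁⟩ := Hensel.exists_algEquiv_strictHenz (L ⧸ K) (Q ⧸ K.map (algebraMap L Q))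
  obtain ⟨e₂⟩ := Hensel.exists_algEquiv_strictHenz (L ⧸ K) T
  haveI := Hensel.formallyEtale_of_isStrictHenselization L Q
  haveI := Hensel.faithfullyFlat_of_isStrictHenselization L Q
  exact quasiIso_of_stage ι hι φ hc hflat het Q (e₁.symm.trans e₂).toRingEquiv fun l =>
    (e₁.symm.trans e₂).commutes (Ideal.Quotient.mk K l)

theorem quasiIso_henz [Hensel.IsHenselization A Ah] [Hensel.IsHenselization B T] :
    QuasiIso (NLCx.bcMapSelf A B Ah T) := by
  haveI := Hensel.formallyEtale_of_isHenselization A Ah
  haveI := Hensel.faithfullyFlat_of_isHenselization A Ah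
  haveI : IsLocalHom (algebraMap A T) := by
    rw [IsScalarTower.algebraMap_eq A B T]; infer_instance
  haveI := isLocalHom_right (T := T) (Hensel.map_maximalIdeal_of_isHenselization A Ah)
  obtain ⟨L, _, _, _, φ, ι, hφl, hι, hc, hflat, het, hext⟩ := exists_stage A B Ah T
  let K := (Generators.self A B).toExtension.ker.map ι
  have hKφ : ∀ l ∈ K, φ.toRingHom l = 0 := fun l hl => by
    have : K ≤ RingHom.ker φ.toRingHom := Ideal.map_le_iff_le_comap.2 fun x hx => by
      show φ (ι x) = 0
      rw [hc]
      exact (congrArg _ (show algebraMap (Generators.self A B).Ring B x = 0 from hx)).trans (map_zero _)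
    exact this hl
  haveI : Nontrivial (L ⧸ K) := Ideal.Quotient.nontrivial_iff.2 fun h =>
    one_ne_zero (α := T) ((map_one φ.toRingHom).symm.trans (hKφ 1 (h ▸ trivial)))
  haveI : IsLocalRing (L ⧸ K) := IsLocalRing.of_surjective' (Ideal.Quotient.mk K) Ideal.Quotient.mk_surjective
  letI : Algebra (L ⧸ K) T := (Ideal.Quotient.lift K φ.toRingHom hKφ).toAlgebra
  have hCT : ∀ l, algebraMap (L ⧸ K) T (Ideal.Quotient.mk K l) = φ l := fun l => rfl
  haveI : IsLocalHom (algebraMap (L ⧸ K) T) := ⟨fun x hx => by
    obtain ⟨l, rfl⟩ := Ideal.Quotient.mk_surjective x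
    exact (hφl.map_nonunit l hx).map _⟩
  obtain ⟨β, hβ⟩ := exists_quot_map ι K le_rfl
  have hβT : ∀ b, algebraMap (L ⧸ K) T (β b) = algebraMap B T b := fun b => by
    obtain ⟨x, rfl⟩ := (Generators.self A B).toExtension.algebraMap_surjective b
    exact ((congrArg _ (hβ x)).trans (hCT _)).trans (hc x)
  haveI : IsLocalHom β := ⟨fun b hb => (isUnit_map_iff (algebraMap B T) b).1 (hβT b ▸ hb.map _)⟩
  haveI : HenselianLocalRing T := Hensel.IsHenselization.henselian B
  have hT : Hensel.IsHenselization (L ⧸ K) T := by
    refine ⟨inferInstance, fun H _ _ f hf => ?_⟩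
    obtain ⟨g, hg, hu⟩ := Hensel.IsHenselization.universal (R := B) (S := T) H (f.comp β) (RingHom.isLocalHom_comp _ _)
    haveI : IsLocalHom (algebraMap Ah T) := inferInstance
    haveI : IsLocalHom g := by
      haveI : IsLocalHom (g.comp (algebraMap B T)) := hg ▸ RingHom.isLocalHom_comp _ _
      refine ((IsLocalRing.local_hom_TFAE g).out 0 2).2 ?_
      rw [← Hensel.map_maximalIdeal_of_isHenselization B T, Ideal.map_map]
      exact ((IsLocalRing.local_hom_TFAE (g.comp (algebraMap B T))).out 0 2).1 ‹_›
    have hgC : ∀ c, g (algebraMap (L ⧸ K) T c) = f c := by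
      have key : (g.comp φ.toRingHom) = f.comp (Ideal.Quotient.mk K) := by
        refine hext H _ _ (fun a => ?_) fun x => ?_
        · have h1 := (Hensel.IsHenselization.universal (R := A) (S := Ah) H (g.comp (algebraMap A T))
            (RingHom.isLocalHom_comp _ _)).unique (y₁ := g.comp (algebraMap Ah T))
            (y₂ := f.comp ((Ideal.Quotient.mk K).comp (algebraMap Ah L)))
            (by rw [RingHom.comp_assoc, ← IsScalarTower.algebraMap_eq]) (RingHom.ext fun r => ?_)
          · show g (φ (algebraMap Ah L a)) = _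
            rw [φ.commutes]
            exact congr($h1 a)
          · show f (Ideal.Quotient.mk K (algebraMap Ah L (algebraMap A Ah r))) = g (algebraMap A T r)
            rw [← hι, ← hβ, IsScalarTower.algebraMap_apply A B T]
            refine Eq.trans ?_ (congr($hg (algebraMap A B r))).symm
            exact congrArg (fun z => f (β z)) (IsScalarTower.algebraMap_apply A (Generators.self A B).Ring B r).symm
        · show g (φ (ι x)) = f (Ideal.Quotient.mk K (ι x))
          rw [hc, ← hβ]
          exact congr($hg _)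
      intro c
      obtain ⟨l, rfl⟩ := Ideal.Quotient.mk_surjective c
      exact congr($key l)
    refine ⟨g, RingHom.ext hgC, fun g' hg' => hu g' (RingHom.ext fun b => ?_)⟩
    show g' (algebraMap B T b) = f (β b)
    rw [← hβT]
    exact congr($hg' (β b))
  let Q := Hensel.LocalHenz L
  haveI := Hensel.isHenselization_localHenz L
  let π₀ : Q →+* Q ⧸ K.map (algebraMap L Q) := Ideal.Quotient.mk _
  haveI : Nontrivial (Q ⧸ K.map (algebraMap L Q)) := Ideal.Quotient.nontrivial_iff.2 fun h => by
    have h1 : K.map (algebraMap L Q) ≤ maximalIdeal Q := by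
      refine (Ideal.map_mono (le_maximalIdeal ?_)).trans (Hensel.map_maximalIdeal_of_isHenselization L Q).le
      exact Ideal.Quotient.nontrivial_iff.1 inferInstance
    exact (maximalIdeal.isMaximal Q).ne_top (top_le_iff.1 (h ▸ h1))
  haveI : IsLocalRing (Q ⧸ K.map (algebraMap L Q)) := IsLocalRing.of_surjective' π₀ Ideal.Quotient.mk_surjective
  letI : Algebra (L ⧸ K) (Q ⧸ K.map (algebraMap L Q)) :=
    (Ideal.quotientMap _ (algebraMap L Q) Ideal.le_comap_map).toAlgebra
  haveI : IsLocalHom (algebraMap (L ⧸ K) (Q ⧸ K.map (algebraMap L Q))) := ⟨fun x hx => by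
    obtain ⟨l, rfl⟩ := Ideal.Quotient.mk_surjective x
    haveI : IsLocalHom π₀ := Ideal.Quotient.mk_surjective.isLocalHom π₀
    exact ((isUnit_map_iff (algebraMap L Q) l).1 ((isUnit_map_iff π₀ _).1 hx)).map _⟩
  haveI : Hensel.IsHenselization (L ⧸ K) (Q ⧸ K.map (algebraMap L Q)) := by
    refine (Hensel.isPairHenselization_iff_isHenselization _ _).1 ?_
    have h := Hensel.isPairHenselization_quotient ((Hensel.isPairHenselization_iff_isHenselization L Q).2 ‹_›) K
    haveI : IsLocalHom (Ideal.Quotient.mk K) := Ideal.Quotient.mk_surjective.isLocalHom _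
    have hm : (maximalIdeal L).map (Ideal.Quotient.mk K) = maximalIdeal (L ⧸ K) :=
      IsLocalRing.map_maximalIdeal_of_surjective _ Ideal.Quotient.mk_surjective
    rw [← hm]
    exact h
  obtain ⟨e₁⟩ := Hensel.exists_algEquiv_localHenz (L ⧸ K) (Q ⧸ K.map (algebraMap L Q))
  obtain ⟨e₂⟩ := Hensel.exists_algEquiv_localHenz (L ⧸ K) T
  haveI := Hensel.formallyEtale_of_isHenselization L Q
  haveI := Hensel.faithfullyFlat_of_isHenselization L Q
  exact quasiIso_of_stage ι hι φ hc hflat het Q (e₁.symm.trans e₂).toRingEquiv fun l =>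
    (e₁.symm.trans e₂).commutes (Ideal.Quotient.mk K l)

end Groth.Agent.NLHenz
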